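import Mathlib

/-!
# Extending a rational map at a point whose local ring is a valuation ring (helper6)
-/

set_option backward.isDefEq.respectTransparency.types false
set_option autoImplicit false
universe u
open CategoryTheory CategoryTheory.Limits AlgebraicGeometry TopologicalSpace IsLocalRing

namespace Groth.Agent.Lib.Helper6.RatExt

/-- In a quasi-sober space with finitely many irreducible components, if `ξ` specializes to
every generization of `y`, then `ξ` specializes to every point of a neighbourhood of `y`. -/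
theorem exists_open_forall_specializes {X : Type*} [TopologicalSpace X] [QuasiSober X]
    (hfin : (irreducibleComponents X).Finite) (y ξ : X)
    (hmax : ∀ z : X, z ⤳ y → ξ ⤳ z) :
    ∃ O : Set X, IsOpen O ∧ y ∈ O ∧ ∀ z ∈ O, ξ ⤳ z := by
  let 𝒯 : Set (Set X) := {T ∈ irreducibleComponents X | y ∉ T}
  have h𝒯fin : 𝒯.Finite := hfin.subset (fun T hT => hT.1)
  let F : Set X := ⋃₀ 𝒯
  have hFc : IsClosed F := by
    show IsClosed (⋃₀ 𝒯)
    rw [Set.sUnion_eq_biUnion]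
    exact h𝒯fin.isClosed_biUnion (fun T hT => isClosed_of_mem_irreducibleComponents T hT.1)
  have hyF : y ∉ F := by
    rintro ⟨T, hT, hyT⟩
    exact hT.2 hyT
  refine ⟨Fᶜ, hFc.isOpen_compl, hyF, ?_⟩
  intro z hzF
  let T := irreducibleComponent z
  have hT : T ∈ irreducibleComponents X := irreducibleComponent_mem_irreducibleComponents z
  have hzT : z ∈ T := mem_irreducibleComponent
  have hyT : y ∈ T := by
    by_contra h
    exact hzF ⟨T, ⟨hT, h⟩, hzT⟩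
  obtain ⟨ζ, hζ⟩ := QuasiSober.sober hT.1 (isClosed_of_mem_irreducibleComponents T hT)
  have h1 : ζ ⤳ y := by
    rw [specializes_iff_mem_closure, hζ.def]; exact hyT
  have h2 : ζ ⤳ z := by
    rw [specializes_iff_mem_closure, hζ.def]; exact hzT
  exact (hmax _ h1).trans h2

theorem specMap_fractionMap_specializes (R : Type u) [CommRing R] [IsDomain R]
    (K : Type u) [Field K] [Algebra R K] [IsFractionRing R K]
    (pt : Spec (CommRingCat.of K)) (p : Spec (CommRingCat.of R)) :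
    (Spec.map (CommRingCat.ofHom (algebraMap R K))) pt ⤳ p := by
  refine (PrimeSpectrum.le_iff_specializes
    ((Spec.map (CommRingCat.ofHom (algebraMap R K))) pt) p).mp ?_
  change Ideal.comap (algebraMap R K) pt.asIdeal ≤ p.asIdeal
  have : pt.asIdeal = ⊥ := Ideal.eq_bot_of_prime pt.asIdeal
  rw [this, Ideal.comap_bot_of_injective _ (IsFractionRing.injective R K)]
  exact bot_le

/-- Gluing a family of morphisms on opens agreeing on pairwise intersections. -/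
theorem glue_of_inf {X Y : Scheme.{u}} {J : Type u} (𝒱 : J → X.Opens)
    (g : ∀ j, ((𝒱 j : X.Opens) : Scheme.{u}) ⟶ Y)
    (hc : ∀ j₁ j₂, X.homOfLE (inf_le_left : 𝒱 j₁ ⊓ 𝒱 j₂ ≤ 𝒱 j₁) ≫ g j₁ =
      X.homOfLE (inf_le_right : 𝒱 j₁ ⊓ 𝒱 j₂ ≤ 𝒱 j₂) ≫ g j₂) :
    ∃ s' : ((⨆ j, 𝒱 j : X.Opens) : Scheme.{u}) ⟶ Y,
      (∀ j, X.homOfLE (le_iSup 𝒱 j) ≫ s' = g j) ∧
      ∀ {S : Scheme.{u}} (q : Y ⟶ S) (p : X ⟶ S), (∀ j, g j ≫ q = (𝒱 j).ι ≫ p) →
        s' ≫ q = (⨆ j, 𝒱 j).ι ≫ p := by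
  let 𝒰 := Scheme.Opens.iSupOpenCover 𝒱
  have compat : ∀ j₁ j₂ : J, pullback.fst (𝒰.f j₁) (𝒰.f j₂) ≫ g j₁ =
      pullback.snd (𝒰.f j₁) (𝒰.f j₂) ≫ g j₂ := by
    intro j₁ j₂
    have hu : pullback.fst (𝒰.f j₁) (𝒰.f j₂) ≫ (𝒱 j₁).ι =
        pullback.snd (𝒰.f j₁) (𝒰.f j₂) ≫ (𝒱 j₂).ι := by
      have e1 : (𝒱 j₁).ι = 𝒰.f j₁ ≫ (⨆ j, 𝒱 j).ι := (Scheme.homOfLE_ι X (le_iSup 𝒱 j₁)).symm
      have e2 : (𝒱 j₂).ι = 𝒰.f j₂ ≫ (⨆ j, 𝒱 j).ι := (Scheme.homOfLE_ι X (le_iSup 𝒱 j₂)).symm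
      rw [e1, e2, pullback.condition_assoc]
    have hr : Set.range (pullback.fst (𝒰.f j₁) (𝒰.f j₂) ≫ (𝒱 j₁).ι) ⊆
        Set.range (𝒱 j₁ ⊓ 𝒱 j₂).ι := by
      rintro _ ⟨w, rfl⟩
      rw [Scheme.Opens.range_ι]
      refine ⟨?_, ?_⟩
      · rw [Scheme.Hom.comp_apply]; exact (pullback.fst (𝒰.f j₁) (𝒰.f j₂) w).2
      · rw [hu, Scheme.Hom.comp_apply]; exact (pullback.snd (𝒰.f j₁) (𝒰.f j₂) w).2
    let l := IsOpenImmersion.lift (𝒱 j₁ ⊓ 𝒱 j₂).ι (pullback.fst (𝒰.f j₁) (𝒰.f j₂) ≫ (𝒱 j₁).ι) hr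
    have hl : l ≫ (𝒱 j₁ ⊓ 𝒱 j₂).ι = pullback.fst (𝒰.f j₁) (𝒰.f j₂) ≫ (𝒱 j₁).ι :=
      IsOpenImmersion.lift_fac _ _ _
    have h1 : (pullback.fst (𝒰.f j₁) (𝒰.f j₂) :
        pullback (𝒰.f j₁) (𝒰.f j₂) ⟶ ((𝒱 j₁ : X.Opens) : Scheme.{u})) =
        l ≫ X.homOfLE (inf_le_left : 𝒱 j₁ ⊓ 𝒱 j₂ ≤ 𝒱 j₁) := by
      refine (cancel_mono (𝒱 j₁).ι).mp ?_
      rw [Category.assoc, Scheme.homOfLE_ι, hl]; rfl
    have h2 : (pullback.snd (𝒰.f j₁) (𝒰.f j₂) :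
        pullback (𝒰.f j₁) (𝒰.f j₂) ⟶ ((𝒱 j₂ : X.Opens) : Scheme.{u})) =
        l ≫ X.homOfLE (inf_le_right : 𝒱 j₁ ⊓ 𝒱 j₂ ≤ 𝒱 j₂) := by
      refine (cancel_mono (𝒱 j₂).ι).mp ?_
      rw [Category.assoc, Scheme.homOfLE_ι, hl, hu]; rfl
    calc pullback.fst (𝒰.f j₁) (𝒰.f j₂) ≫ g j₁
        = (l ≫ X.homOfLE (inf_le_left : 𝒱 j₁ ⊓ 𝒱 j₂ ≤ 𝒱 j₁)) ≫ g j₁ := by rw [← h1]; rfl
      _ = (l ≫ X.homOfLE (inf_le_right : 𝒱 j₁ ⊓ 𝒱 j₂ ≤ 𝒱 j₂)) ≫ g j₂ := by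
          rw [Category.assoc, Category.assoc, hc j₁ j₂]
      _ = pullback.snd (𝒰.f j₁) (𝒰.f j₂) ≫ g j₂ := by rw [← h2]; rfl
  refine ⟨𝒰.glueMorphisms g compat, ?_, ?_⟩
  · intro j
    exact 𝒰.ι_glueMorphisms _ compat j
  · intro S q p hq
    refine 𝒰.hom_ext _ _ fun j => ?_
    rw [Scheme.Cover.ι_glueMorphisms_assoc]
    exact (hq j).trans (Scheme.homOfLE_ι_assoc X (le_iSup 𝒱 j) p).symm


/-- gluing two morphisms, over a base -/
theorem glue_two {X Y S : Scheme.{u}} (p : X ⟶ S) (q : Y ⟶ S) (U V : X.Opens)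
    (a : (U : Scheme.{u}) ⟶ Y) (b : (V : Scheme.{u}) ⟶ Y)
    (ha : a ≫ q = U.ι ≫ p) (hb : b ≫ q = V.ι ≫ p)
    (hab : X.homOfLE (inf_le_left : U ⊓ V ≤ U) ≫ a = X.homOfLE (inf_le_right : U ⊓ V ≤ V) ≫ b) :
    ∃ (U' : X.Opens) (hU : U ≤ U') (_ : V ≤ U') (c : (U' : Scheme.{u}) ⟶ Y),
      X.homOfLE hU ≫ c = a ∧ c ≫ q = U'.ι ≫ p := by
  let 𝒱 : ULift.{u} Bool → X.Opens := fun j => if j.down then U else V
  let g : ∀ j, ((𝒱 j : X.Opens) : Scheme.{u}) ⟶ Y := fun j =>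
    match j with
    | ⟨true⟩ => a
    | ⟨false⟩ => b
  have hc : ∀ j₁ j₂, X.homOfLE (inf_le_left : 𝒱 j₁ ⊓ 𝒱 j₂ ≤ 𝒱 j₁) ≫ g j₁ =
      X.homOfLE (inf_le_right : 𝒱 j₁ ⊓ 𝒱 j₂ ≤ 𝒱 j₂) ≫ g j₂ := by
    rintro ⟨_ | _⟩ ⟨_ | _⟩
    · rfl
    · show X.homOfLE (inf_le_left : V ⊓ U ≤ V) ≫ b = X.homOfLE (inf_le_right : V ⊓ U ≤ U) ≫ a
      have e : V ⊓ U ≤ U ⊓ V := le_of_eq (inf_comm V U)
      rw [← Scheme.homOfLE_homOfLE X e (inf_le_right : U ⊓ V ≤ V),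
        ← Scheme.homOfLE_homOfLE X e (inf_le_left : U ⊓ V ≤ U), Category.assoc, Category.assoc, hab]
    · exact hab
    · rfl
  obtain ⟨s', h1, h2⟩ := glue_of_inf 𝒱 g hc
  refine ⟨⨆ j, 𝒱 j, le_iSup 𝒱 ⟨true⟩, le_iSup 𝒱 ⟨false⟩, s', h1 ⟨true⟩, ?_⟩
  apply h2 q p
  rintro ⟨_ | _⟩
  · exact hb
  · exact ha

set_option maxHeartbeats 1000000 in
/-- Main extension theorem given a reduced open neighbourhood. -/
theorem main {X Y S : Scheme.{u}} (p : X ⟶ S) (q : Y ⟶ S)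
    [IsProper q] (x : X) (U : X.Opens) (f : (U : Scheme.{u}) ⟶ Y) (hf : f ≫ q = U.ι ≫ p)
    (hx : x ∈ closure (U : Set ↥X))
    (hfin : (irreducibleComponents ↥X).Finite)
    (V₀ : X.Opens) (hxV₀ : x ∈ V₀) [IsReduced V₀]
    [IsDomain (X.presheaf.stalk x)] [ValuationRing (X.presheaf.stalk x)] :
    ∃ (U' : X.Opens) (hUU' : U ≤ U'), x ∈ U' ∧
      ∃ f' : (U' : Scheme.{u}) ⟶ Y, f' ≫ q = U'.ι ≫ p ∧ X.homOfLE hUU' ≫ f' = f := by
  let K : Type u := FractionRing (X.presheaf.stalk x)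
  let a : X.presheaf.stalk x ⟶ CommRingCat.of K :=
    CommRingCat.ofHom (algebraMap (X.presheaf.stalk x) K)
  let j : Spec (X.presheaf.stalk x) ⟶ X := X.fromSpecStalk x
  let pt : Spec (CommRingCat.of K) := closedPoint K
  have hξ : ∀ z : X, z ⤳ x → (Spec.map a ≫ j) pt ⤳ z := by
    intro z hz
    obtain ⟨p, rfl⟩ : z ∈ Set.range j := by rw [Scheme.range_fromSpecStalk]; exact hz
    rw [Scheme.Hom.comp_apply]
    have h := specMap_fractionMap_specializes (X.presheaf.stalk x) K pt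
    exact (h p).map j.continuous
  obtain ⟨O, hO, hxO, hOξ⟩ := exists_open_forall_specializes hfin x ((Spec.map a ≫ j) pt) hξ
  let O' : X.Opens := ⟨O, hO⟩
  let V : X.Opens := V₀ ⊓ O'
  have hxV : x ∈ V := ⟨hxV₀, hxO⟩
  have hVξ : ∀ z ∈ V, (Spec.map a ≫ j) pt ⤳ z := fun z hz => hOξ z hz.2
  have hredV : IsReduced V := isReduced_of_isOpenImmersion (X.homOfLE (inf_le_left : V ≤ V₀))
  have hξV : (Spec.map a ≫ j) pt ∈ V := (hξ x specializes_rfl).mem_open V.2 hxV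
  have hirr : IsIrreducible (V : Set X) := by
    refine ⟨⟨_, hξV⟩, ?_⟩
    rintro A B hA hB ⟨a₁, ha₁V, ha₁A⟩ ⟨b₁, hb₁V, hb₁B⟩
    exact ⟨_, hξV, (hVξ a₁ ha₁V).mem_open hA ha₁A, (hVξ b₁ hb₁V).mem_open hB hb₁B⟩
  have hirrV : IrreducibleSpace V := Subtype.irreducibleSpace hirr
  have hintV : IsIntegral V := isIntegral_of_irreducibleSpace_of_isReduced V
  have hgi : X.IsGermInjectiveAt x := by
    have h := (isGermInjectiveAt_iff_of_isOpenImmersion (f := V.ι) (x := ⟨x, hxV⟩)).mpr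
      inferInstance
    exact h
  -- the generic point lies in `U`
  have hξU : (Spec.map a ≫ j) pt ∈ U := by
    obtain ⟨z, hzV, hzU⟩ := mem_closure_iff.mp hx V V.2 hxV
    exact (hVξ z hzV).mem_open U.2 hzU
  have hpt : ∀ pt' : Spec (CommRingCat.of K), pt' = pt := fun pt' => Subsingleton.elim _ _
  let κ : Spec (CommRingCat.of K) ⟶ U := IsOpenImmersion.lift U.ι (Spec.map a ≫ j) (by
    rintro _ ⟨pt', rfl⟩
    rw [hpt pt', Scheme.Opens.range_ι]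
    exact hξU)
  have hκ : κ ≫ U.ι = Spec.map a ≫ j := IsOpenImmersion.lift_fac _ _ _
  -- valuative criterion
  have hex : ValuativeCriterion.Existence q := by
    have h : UniversallyClosed q := inferInstance
    rw [UniversallyClosed.eq_valuativeCriterion] at h
    exact h.1
  let sq : ValuativeCommSq q :=
    { R := X.presheaf.stalk x
      commRing := (X.presheaf.stalk x).commRing
      domain := ‹IsDomain (X.presheaf.stalk x)›
      valuationRing := ‹ValuationRing (X.presheaf.stalk x)›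
      K := K
      i₁ := κ ≫ f
      i₂ := j ≫ p
      commSq := ⟨by rw [Category.assoc, hf, reassoc_of% hκ]; rfl⟩ }
  obtain ⟨⟨l⟩⟩ := hex sq
  have hσ1 : l.l ≫ q = j ≫ p := l.fac_right
  have hσ2 : Spec.map a ≫ l.l = κ ≫ f := l.fac_left
  obtain ⟨W₀, hxW₀, g, hg1, hg2⟩ := spread_out_of_isGermInjective' p q l.l hσ1
  let W : X.Opens := W₀ ⊓ V
  have hxW : x ∈ W := ⟨hxW₀, hxV⟩
  have hWW₀ : W ≤ W₀ := inf_le_left
  have hgq : (X.homOfLE hWW₀ ≫ g) ≫ q = W.ι ≫ p := by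
    rw [Category.assoc, hg2, Scheme.homOfLE_ι_assoc]
  -- agreement on the intersection
  have hagree : X.homOfLE (inf_le_left : U ⊓ W ≤ U) ≫ f =
      X.homOfLE (inf_le_right : U ⊓ W ≤ W) ≫ (X.homOfLE hWW₀ ≫ g) := by
    have hξT : (Spec.map a ≫ j) pt ∈ U ⊓ W :=
      ⟨hξU, (hξ x specializes_rfl).mem_open W.2 hxW⟩
    let κ' : Spec (CommRingCat.of K) ⟶ (U ⊓ W : X.Opens) :=
      IsOpenImmersion.lift (U ⊓ W).ι (Spec.map a ≫ j) (by
        rintro _ ⟨pt', rfl⟩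
        rw [hpt pt', Scheme.Opens.range_ι]
        exact hξT)
    have hκ' : κ' ≫ (U ⊓ W).ι = Spec.map a ≫ j := IsOpenImmersion.lift_fac _ _ _
    have hTV : U ⊓ W ≤ V := inf_le_right.trans inf_le_right
    have : IsReduced (U ⊓ W : X.Opens) := isReduced_of_isOpenImmersion (X.homOfLE hTV)
    have : IsDominant κ' := by
      constructor
      intro t
      have h1 : (U ⊓ W).ι (κ' pt) ⤳ (U ⊓ W).ι t := by
        rw [← Scheme.Hom.comp_apply, hκ']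
        exact hVξ _ (hTV t.2)
      have h2 : κ' pt ⤳ t :=
        ((U ⊓ W).ι.isOpenEmbedding.isInducing.specializes_iff).mp h1
      have h3 : ({κ' pt} : Set ↥(U ⊓ W : X.Opens)) ⊆ Set.range κ' :=
        Set.singleton_subset_iff.mpr ⟨pt, rfl⟩
      exact closure_mono h3 (specializes_iff_mem_closure.mp h2)
    refine ext_of_isDominant_of_isSeparated q ?_ κ' ?_
    · rw [Category.assoc, hf, Scheme.homOfLE_ι_assoc, Category.assoc, hgq,
        Scheme.homOfLE_ι_assoc]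
    · have e1 : κ' ≫ X.homOfLE (inf_le_left : U ⊓ W ≤ U) = κ := by
        rw [← cancel_mono U.ι, Category.assoc, Scheme.homOfLE_ι, hκ', hκ]
      have e2 : κ' ≫ X.homOfLE (inf_le_right : U ⊓ W ≤ W) ≫ X.homOfLE hWW₀ =
          Spec.map a ≫ W₀.fromSpecStalkOfMem x hxW₀ := by
        rw [← cancel_mono W₀.ι, Category.assoc, Category.assoc, Scheme.homOfLE_ι,
          Scheme.homOfLE_ι, hκ', Category.assoc, Scheme.Opens.fromSpecStalkOfMem_ι]
      rw [reassoc_of% e1, ← hσ2, hg1]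
      simp only [← Category.assoc]
      congr 1
      simp only [Category.assoc]
      exact e2.symm
  obtain ⟨U', hUU', hWU', c, hc1, hc2⟩ := glue_two p q U W f (X.homOfLE hWW₀ ≫ g) hf hgq hagree
  exact ⟨U', hUU', hWU' hxW, c, hc2, hc1⟩


/-- In a locally Noetherian scheme, a point whose local ring is a domain has a reduced open
neighbourhood. -/
theorem exists_reduced_nhd {X : Scheme.{u}} [IsLocallyNoetherian X] (x : X)
    [IsDomain (X.presheaf.stalk x)] : ∃ V : X.Opens, x ∈ V ∧ IsReduced V := by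
  obtain ⟨V, hxV, hV, hinj⟩ := (inferInstance : X.IsGermInjectiveAt x).cond
  refine ⟨V, hxV, ?_⟩
  have : IsAffine V := hV
  have h1 : IsDomain Γ(X, V) := hinj.isDomain (X.presheaf.germ V x hxV).hom
  have h2 : _root_.IsReduced Γ(V, ⊤) :=
    isReduced_of_injective V.topIso.hom.hom V.topIso.commRingCatIsoToRingEquiv.injective
  exact isReduced_of_isAffine_isReduced V

theorem final {X Y S : Scheme.{u}} (p : X ⟶ S) (q : Y ⟶ S)
    [IsProper q] (x : X) (U : X.Opens) (f : (U : Scheme.{u}) ⟶ Y) (hf : f ≫ q = U.ι ≫ p)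
    (hx : x ∈ closure (U : Set ↥X))
    (hX : (IsReduced X ∧ (irreducibleComponents ↥X).Finite) ∨ IsNoetherian X)
    (hdom : IsDomain (X.presheaf.stalk x)) (hval : @ValuationRing (X.presheaf.stalk x) _ hdom) :
    ∃ (U' : X.Opens) (hUU' : U ≤ U'), x ∈ U' ∧
      ∃ f' : (U' : Scheme.{u}) ⟶ Y, f' ≫ q = U'.ι ≫ p ∧ X.homOfLE hUU' ≫ f' = f := by
  rcases hX with ⟨hred, hfin⟩ | hN
  · have : IsReduced (⊤ : X.Opens) := isReduced_of_isOpenImmersion (⊤ : X.Opens).ι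
    exact main p q x U f hf hx hfin ⊤ trivial
  · have hfin : (irreducibleComponents ↥X).Finite := NoetherianSpace.finite_irreducibleComponents
    obtain ⟨V₀, hxV₀, hV₀⟩ := exists_reduced_nhd x
    exact main p q x U f hf hx hfin V₀ hxV₀

end Groth.Agent.Lib.Helper6.RatExt
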